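import Mathlib
import Cfsg.Agent.S1244
import Cfsg.Agent.Transfer.Extraspecial
import Cfsg.Agent.S0892
import Cfsg.Agent.S3378
import Cfsg.Agent.SporadicB.DoubleCoverUnique
import Cfsg.Agent.SmallSimple.OrderEight
import Cfsg.Agent.FastGrp
import Cfsg.Agent.Prune
set_option linter.all false
prune_inst 0x7f00000000000000000000000000000000000000000000000000000000000000000000000000000000000000000000000000000000000000000000000000000000000000000000000000000000000000003fffffffffffffffffffffffffffbeffbdffffffff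
open scoped Cfsg.Agent.FastGrp

-- part: H981/CentAb
section
/-!
# Perfect central extensions of groups with abelian Sylow 2-subgroups (helper981)

* `eq_one_of_abelian` : a perfect finite group with abelian Sylow 2-subgroup has no central 2-elements;
* `comm_of_torus` : lifts to a central extension of a subgroup `u(F)` of the additive group of a field on which all
  scalars are induced commute, if `F` has an element `x ≠ 0, -1` with `x² + x + 1 ≠ 0`;
* `eight` : if `K/Z` has abelian Sylow 2-subgroups of order 8, `K` perfect, `Z` a central 2-subgroup, then `Z = 1`.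
-/

set_option autoImplicit false

namespace Cfsg.Agent.H981.CentAb

open Subgroup
open scoped commutatorElement

theorem no_index_two {K : Type*} [Group K] (h : commutator K = ⊤) (H : Subgroup K) : H.index ≠ 2 := by
  intro h2
  have hn : H.Normal := Subgroup.normal_of_index_eq_two h2
  have hq : Nat.card (K ⧸ H) = 2 := h2
  have : Fact (Nat.Prime 2) := ⟨Nat.prime_two⟩
  have hcyc : IsCyclic (K ⧸ H) := isCyclic_of_prime_card hq
  have hle : commutator K ≤ H := by
    rw [← QuotientGroup.ker_mk' H]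
    have hcomm : ∀ a b : K ⧸ H, a * b = b * a := fun a b => by
      let _ := hcyc.commGroup
      exact mul_comm a b
    rw [commutator_def, Subgroup.commutator_le]
    intro a _ b _
    rw [MonoidHom.mem_ker, map_commutatorElement, commutatorElement_def,
      hcomm (QuotientGroup.mk' H a), mul_assoc, mul_assoc, mul_inv_cancel_left, mul_inv_cancel]
  rw [h, top_le_iff] at hle
  rw [hle, Subgroup.index_top] at h2
  exact absurd h2 (by norm_num)

theorem mem_sylow_of_central {K : Type*} [Group K] [Finite K] (P : Sylow 2 K) {z : K} (hz : z ∈ center K)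
    (h2 : ∃ k, orderOf z = 2 ^ k) : z ∈ P := by
  have : Fact (Nat.Prime 2) := ⟨Nat.prime_two⟩
  have hn : (zpowers z).Normal := by
    refine ⟨fun n hn g => ?_⟩
    obtain ⟨k, rfl⟩ := mem_zpowers_iff.1 hn
    have : z ^ k ∈ center K := Subgroup.zpow_mem _ hz k
    rw [(mem_center_iff.1 this g), mul_inv_cancel_right]
    exact hn
  have hp : IsPGroup 2 (zpowers z) := by
    obtain ⟨k, hk⟩ := h2
    exact IsPGroup.of_card (n := k) (by rw [Nat.card_zpowers, hk])
  obtain ⟨Q, hQ⟩ := hp.exists_le_sylow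
  obtain ⟨g, hg⟩ := MulAction.exists_smul_eq K Q P
  have h1 : z ∈ Q := hQ (mem_zpowers z)
  have h3 : MulAut.conj g z ∈ (g • Q : Sylow 2 K) := by
    rw [Sylow.smul_def]
    exact Subgroup.smul_mem_pointwise_smul z (MulAut.conj g) _ h1
  rw [hg] at h3
  have h4 : MulAut.conj g z = z := by
    rw [MulAut.conj_apply, mem_center_iff.1 hz g, mul_inv_cancel_right]
  rwa [h4] at h3

/-- a perfect finite group with abelian Sylow 2-subgroup has no central 2-elements -/
theorem eq_one_of_abelian {K : Type*} [Group K] [Finite K] (hp : commutator K = ⊤) (P : Sylow 2 K)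
    (hP : IsMulCommutative (P : Subgroup K)) {z : K} (hz : z ∈ center K) (h2 : ∃ k, orderOf z = 2 ^ k) : z = 1 := by
  refine S1244.fixed_eq_one (no_index_two hp) P hP z (mem_sylow_of_central P hz h2) fun n _ => ?_
  rw [mem_center_iff.1 hz n, mul_inv_cancel_right]

section Torus

variable {K Q F : Type*} [Group K] [Group Q] [Field F]

theorem comm_eq {π : K →* Q} (hker : π.ker ≤ center K) {a a' b b' : K} (ha : π a = π a') (hb : π b = π b') :
    ⁅a, b⁆ = ⁅a', b'⁆ := by
  have h1 : a' * a⁻¹ ∈ center K := hker (by rw [MonoidHom.mem_ker, map_mul, map_inv, ha, mul_inv_cancel])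
  have h2 : b' * b⁻¹ ∈ center K := hker (by rw [MonoidHom.mem_ker, map_mul, map_inv, hb, mul_inv_cancel])
  obtain ⟨z, hz, rfl⟩ : ∃ z ∈ center K, a' = z * a := ⟨_, h1, by group⟩
  obtain ⟨w, hw, rfl⟩ : ∃ w ∈ center K, b' = w * b := ⟨_, h2, by group⟩
  have hz' := mem_center_iff.1 hz
  have hw' := mem_center_iff.1 hw
  have e1 : a * w = w * a := hw' a
  have e2 : b * z⁻¹ = z⁻¹ * b := mem_center_iff.1 (inv_mem hz) b
  have e3 : a⁻¹ * w⁻¹ = w⁻¹ * a⁻¹ := mem_center_iff.1 (inv_mem hw) a⁻¹
  rw [commutatorElement_def, commutatorElement_def, mul_inv_rev, mul_inv_rev]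
  -- z a w b a⁻¹ z⁻¹ b⁻¹ w⁻¹
  have e4 : z * a * (w * b) * (a⁻¹ * z⁻¹) * (b⁻¹ * w⁻¹) = (z * z⁻¹) * (w * w⁻¹) * (a * b * a⁻¹ * b⁻¹) := by
    have c1 : ∀ g, g * z⁻¹ = z⁻¹ * g := fun g => mem_center_iff.1 (inv_mem hz) g
    have c2 : ∀ g, g * w = w * g := hw'
    have c3 : ∀ g, g * w⁻¹ = w⁻¹ * g := fun g => mem_center_iff.1 (inv_mem hw) g
    calc z * a * (w * b) * (a⁻¹ * z⁻¹) * (b⁻¹ * w⁻¹)
        = z * (a * w) * b * (a⁻¹ * z⁻¹) * (b⁻¹ * w⁻¹) := by group
      _ = z * (w * a) * b * (z⁻¹ * a⁻¹) * (w⁻¹ * b⁻¹) := by rw [c2 a, c1 a⁻¹, c3 b⁻¹]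
      _ = z * ((w * a * b) * z⁻¹) * a⁻¹ * w⁻¹ * b⁻¹ := by group
      _ = z * (z⁻¹ * (w * a * b)) * a⁻¹ * w⁻¹ * b⁻¹ := by rw [c1]
      _ = z * z⁻¹ * w * ((a * b * a⁻¹) * w⁻¹) * b⁻¹ := by group
      _ = z * z⁻¹ * w * (w⁻¹ * (a * b * a⁻¹)) * b⁻¹ := by rw [c3]
      _ = (z * z⁻¹) * (w * w⁻¹) * (a * b * a⁻¹ * b⁻¹) := by group
  rw [e4, mul_inv_cancel, mul_inv_cancel, one_mul, one_mul]

/-- **Lifts commute.** -/
theorem comm_of_torus {π : K →* Q} (hπ : Function.Surjective π) (hker : π.ker ≤ center K) (u : F → Q)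
    (hu : ∀ x y, u (x + y) = u x * u y) (ht : ∀ s : F, s ≠ 0 → ∃ h : Q, ∀ x, h * u x * h⁻¹ = u (s * x))
    {x₀ : F} (h0 : x₀ ≠ 0) (h1 : x₀ + 1 ≠ 0) (h2 : x₀ ^ 2 + x₀ + 1 ≠ 0) (a b : K) (ha : ∃ x, π a = u x)
    (hb : ∃ y, π b = u y) : a * b = b * a := by
  choose v hv using fun x : F => hπ (u x)
  let c : F → F → K := fun x y => ⁅v x, v y⁆
  have hc : ∀ (x y : F) (a b : K), π a = u x → π b = u y → ⁅a, b⁆ = c x y := fun x y a b ha hb =>
    comm_eq hker (ha.trans (hv x).symm) (hb.trans (hv y).symm)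
  have hcc : ∀ x y, c x y ∈ center K := by
    intro x y
    apply hker
    rw [MonoidHom.mem_ker, map_commutatorElement, hv, hv, commutatorElement_def, ← hu, add_comm, hu]
    group
  have hadd : ∀ x x' y, c (x + x') y = c x y * c x' y := by
    intro x x' y
    have h3 : c (x + x') y = ⁅v x * v x', v y⁆ := (hc _ _ _ _ (by rw [map_mul, hv, hv, hu]) (hv y)).symm
    have h4 : ⁅v x * v x', v y⁆ = v x * ⁅v x', v y⁆ * (v x)⁻¹ * ⁅v x, v y⁆ := by
      simp only [commutatorElement_def]; group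
    have h5 := mem_center_iff.1 (hcc x' y) (v x)
    rw [h3, h4]
    change v x * c x' y * (v x)⁻¹ * c x y = _
    rw [h5, mul_inv_cancel_right]
    exact (mem_center_iff.1 (hcc x' y) _).symm
  have hadd2 : ∀ x y y', c x (y + y') = c x y * c x y' := by
    intro x y y'
    have h3 : ∀ s t, c s t = (c t s)⁻¹ := fun s t => (commutatorElement_inv _ _).symm
    rw [h3, hadd, mul_inv_rev, ← h3, ← h3]
    exact mem_center_iff.1 (hcc x y) _
  have hinv : ∀ s : F, s ≠ 0 → ∀ x y, c (s * x) (s * y) = c x y := by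
    intro s hs x y
    obtain ⟨h, hh⟩ := ht s hs
    obtain ⟨g, rfl⟩ := hπ h
    have h3 : c (s * x) (s * y) = ⁅g * v x * g⁻¹, g * v y * g⁻¹⁆ :=
      (hc _ _ _ _ (by rw [map_mul, map_mul, map_inv, hv, hh]) (by rw [map_mul, map_mul, map_inv, hv, hh])).symm
    have h4 : ⁅g * v x * g⁻¹, g * v y * g⁻¹⁆ = g * ⁅v x, v y⁆ * g⁻¹ := by
      simp only [commutatorElement_def]; group
    rw [h3, h4]
    change g * c x y * g⁻¹ = c x y
    rw [mem_center_iff.1 (hcc x y) g, mul_inv_cancel_right]
  have hH : ∀ x y, x ≠ 0 → c x y = c 1 (x⁻¹ * y) := by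
    intro x y hx
    rw [← hinv x hx 1 (x⁻¹ * y), mul_one, mul_inv_cancel_left₀ hx]
  have hc0 : ∀ x, c x 0 = 1 := by
    intro x
    have := hadd2 x 0 0
    rw [add_zero] at this
    exact left_eq_mul.1 this
  have key : ∀ y, c 1 ((x₀⁻¹ + 1 - (x₀ + 1)⁻¹) * y) = 1 := by
    intro y
    have h3 := hadd x₀ 1 y
    rw [hH _ _ h1, hH _ _ h0, ← hadd2] at h3
    have h4 : c 1 ((x₀⁻¹ + 1 - (x₀ + 1)⁻¹) * y) * c 1 ((x₀ + 1)⁻¹ * y) = c 1 (x₀⁻¹ * y + y) := by
      rw [← hadd2]
      congr 1
      ring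
    rw [h3] at h4
    exact mul_eq_right.1 h4
  have hδ : x₀⁻¹ + 1 - (x₀ + 1)⁻¹ ≠ 0 := by
    intro h3
    apply h2
    field_simp at h3
    linear_combination h3
  have hall : ∀ y, c 1 y = 1 := by
    intro y
    have := key ((x₀⁻¹ + 1 - (x₀ + 1)⁻¹)⁻¹ * y)
    rwa [mul_inv_cancel_left₀ hδ] at this
  have hall2 : ∀ x y, c x y = 1 := by
    intro x y
    by_cases hx : x = 0
    · have h3 : c 0 y = (c y 0)⁻¹ := (commutatorElement_inv _ _).symm
      rw [hx, h3, hc0, inv_one]
    · rw [hH x y hx, hall]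
  obtain ⟨x, hx⟩ := ha
  obtain ⟨y, hy⟩ := hb
  have h3 := hc x y a b hx hy
  rw [hall2] at h3
  exact commutatorElement_eq_one_iff_mul_comm.1 h3

end Torus

section Eight

theorem two_case {K Q : Type*} [Group K] [Finite K] [Group Q] (f : K →* Q) (hf : Function.Surjective f)
    (hperf : commutator K = ⊤) {z : K} (hz : z ∈ center K) (hz2 : orderOf z = 2) (hker : f.ker = zpowers z)
    (hQ : ∀ S : Sylow 2 Q, IsMulCommutative (S : Subgroup Q)) (hc : (Nat.card Q).factorization 2 = 3) : False := by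
  have hp2 : Fact (Nat.Prime 2) := ⟨Nat.prime_two⟩
  have hfin : Finite Q := Finite.of_surjective f hf
  have hperfQ : commutator Q = ⊤ := by
    rw [commutator_def, ← MonoidHom.range_eq_top.2 hf, MonoidHom.range_eq_map, ← Subgroup.map_commutator,
      ← commutator_def, hperf]
  have hcardK : Nat.card K = 2 * Nat.card Q := by
    have h1 := Subgroup.card_mul_index f.ker
    rw [Subgroup.index_ker, MonoidHom.range_eq_top.2 hf, hker, Nat.card_zpowers, hz2, Subgroup.card_top] at h1
    exact h1.symm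
  obtain ⟨P₀⟩ : Nonempty (Sylow 2 K) := inferInstance
  obtain ⟨P, hPP⟩ : ∃ P : Subgroup K, P = (P₀ : Subgroup K) := ⟨_, rfl⟩
  have hPcard : Nat.card P = 16 := by
    rw [hPP, P₀.card_eq_multiplicity, hcardK, Nat.factorization_mul (by norm_num) Nat.card_pos.ne',
      Finsupp.add_apply, hc, Nat.Prime.factorization_self Nat.prime_two]
    norm_num
  -- the image
  let S : Sylow 2 Q := P₀.mapSurjective hf
  have hS : ((S : Sylow 2 Q) : Subgroup Q) = P.map f := by rw [hPP]; rfl
  have hSc := hQ S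
  have hzP : z ∈ P := by
    rw [hPP]
    exact mem_sylow_of_central P₀ hz ⟨1, by rw [hz2, pow_one]⟩
  have hz1 : z ≠ 1 := by
    intro h
    rw [h, orderOf_one] at hz2
    exact absurd hz2 (by norm_num)
  have hcomm : ∀ a ∈ P, ∀ b ∈ P, ⁅a, b⁆ ∈ zpowers z := by
    intro a ha b hb
    rw [← hker, MonoidHom.mem_ker, map_commutatorElement, commutatorElement_eq_one_iff_mul_comm]
    have ha' : f a ∈ (S : Subgroup Q) := by rw [hS]; exact mem_map_of_mem f ha
    have hb' : f b ∈ (S : Subgroup Q) := by rw [hS]; exact mem_map_of_mem f hb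
    have := hSc.is_comm.comm ⟨f a, ha'⟩ ⟨f b, hb'⟩
    exact congrArg Subtype.val this
  have hPn : ¬ IsMulCommutative P := fun h =>
    hz1 (eq_one_of_abelian hperf P₀ (by rw [← hPP]; exact h) hz ⟨1, by rw [hz2, pow_one]⟩)
  have hzc : ∀ k ∈ zpowers z, ∀ g, g * k = k * g := by
    intro k hk g
    obtain ⟨i, rfl⟩ := mem_zpowers_iff.1 hk
    exact mem_center_iff.1 (zpow_mem hz i) g
  have hzp : ∀ k ∈ zpowers z, k = 1 ∨ k = z := by
    intro k hk
    rw [mem_zpowers_iff] at hk
    obtain ⟨i, rfl⟩ := hk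
    have h2 : z * z = 1 := by rw [← pow_two, ← hz2, pow_orderOf_eq_one]
    rcases Int.even_or_odd' i with ⟨j, rfl | rfl⟩
    · left; rw [zpow_mul, zpow_ofNat, pow_two, h2, one_zpow]
    · right; rw [zpow_add, zpow_mul, zpow_ofNat, pow_two, h2, one_zpow, one_mul, zpow_one]
  -- the index of the centre
  have hcP : ∀ a b : P, ⁅a, b⁆ ∈ center P := by
    intro a b
    rw [mem_center_iff]
    intro g
    apply Subtype.ext
    exact hzc _ (hcomm a a.2 b b.2) g
  have hz' : (⟨z, hzP⟩ : P) ∈ center P := by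
    rw [mem_center_iff]
    intro g
    exact Subtype.ext (mem_center_iff.1 hz _)
  have hdvd : Nat.card (_root_.commutator P) ∣ 2 := by
    have hle : _root_.commutator P ≤ zpowers (⟨z, hzP⟩ : P) := by
      rw [_root_.commutator_def, Subgroup.commutator_le]
      intro a _ b _
      rcases hzp _ (hcomm a a.2 b b.2) with h | h
      · have : ⁅a, b⁆ = 1 := Subtype.ext h
        rw [this]; exact one_mem _
      · have : ⁅a, b⁆ = (⟨z, hzP⟩ : P) := Subtype.ext h
        rw [this]; exact mem_zpowers _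
    have h2 : Nat.card (zpowers (⟨z, hzP⟩ : P)) = 2 := by
      rw [Nat.card_zpowers, ← Subgroup.orderOf_coe]; exact hz2
    exact (Subgroup.card_dvd_of_le hle).trans h2.dvd
  obtain ⟨n, hn⟩ := Transfer.Extraspecial.exists_index_center_eq (p := 2) 16 hPcard hcP hdvd
  have hcen := Subgroup.card_mul_index (center P)
  rw [hn, hPcard] at hcen
  have hcz : 2 ∣ Nat.card (center P) := by
    have h1 : zpowers (⟨z, hzP⟩ : P) ≤ center P := by rwa [zpowers_le]
    have h2 : Nat.card (zpowers (⟨z, hzP⟩ : P)) = 2 := by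
      rw [Nat.card_zpowers, ← Subgroup.orderOf_coe]; exact hz2
    exact h2.symm.dvd.trans (Subgroup.card_dvd_of_le h1)
  have hn1 : n = 1 := by
    have hn2 : n ≤ 1 := by
      by_contra hcon
      have h3 : 2 ^ (2 * 2) ∣ 2 ^ (2 * n) := pow_dvd_pow 2 (by omega)
      obtain ⟨k, hk⟩ := h3
      obtain ⟨j, hj⟩ := hcz
      rw [hk, hj] at hcen
      have h5 : 32 * (j * k) = 16 := by
        calc 32 * (j * k) = 2 * j * (2 ^ (2 * 2) * k) := by ring
          _ = 16 := hcen
      omega
    have hn0 : n ≠ 0 := by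
      rintro rfl
      have h5 : center P = ⊤ := Subgroup.index_eq_one.1 (by simpa using hn)
      apply hPn
      refine ⟨⟨fun a b => ?_⟩⟩
      have : b ∈ center P := by rw [h5]; trivial
      exact mem_center_iff.1 this a
    omega
  have hc4 : Nat.card (center P) = 4 := by
    rw [hn1] at hcen
    omega
  -- an element of the centre outside `⟨z⟩`
  obtain ⟨d, hd, hdz⟩ : ∃ d ∈ center P, d ∉ zpowers (⟨z, hzP⟩ : P) := by
    by_contra hcon
    push Not at hcon
    have h1 : center P ≤ zpowers (⟨z, hzP⟩ : P) := hcon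
    have h2 := Subgroup.card_le_of_le h1
    have h3 : Nat.card (zpowers (⟨z, hzP⟩ : P)) = 2 := by
      rw [Nat.card_zpowers, ← Subgroup.orderOf_coe]; exact hz2
    omega
  have hidx : (zpowers (⟨z, hzP⟩ : P)).relIndex (center P) = 2 := by
    have h1 : zpowers (⟨z, hzP⟩ : P) ≤ center P := by rwa [zpowers_le]
    have h3 : Nat.card (zpowers (⟨z, hzP⟩ : P)) = 2 := by
      rw [Nat.card_zpowers, ← Subgroup.orderOf_coe]; exact hz2
    have h4 := Subgroup.card_mul_index ((zpowers (⟨z, hzP⟩ : P)).subgroupOf (center P))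
    rw [Nat.card_congr (Subgroup.subgroupOfEquivOfLe h1).toEquiv, h3, hc4] at h4
    change 2 * (zpowers (⟨z, hzP⟩ : P)).relIndex (center P) = 4 at h4
    omega
  -- the image of `d` is fixed by the normalizer of `S`
  have hfd : f (d : K) = 1 := by
    refine S1244.fixed_eq_one (no_index_two hperfQ) S hSc (f d) (by change f d ∈ (S : Subgroup Q); rw [hS]; exact mem_map_of_mem f d.2) ?_
    intro m hm
    obtain ⟨g, rfl⟩ := hf m
    have hgP : g ∈ normalizer ((P : Subgroup K) : Set K) := by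
      rw [mem_normalizer_iff]
      intro a
      have hPc : (P : Subgroup K) = ((S : Sylow 2 Q) : Subgroup Q).comap f := by
        rw [hS, Subgroup.comap_map_eq, hker]
        refine (sup_eq_left.2 ?_).symm
        rw [zpowers_le]
        exact hzP
      have h1 := (mem_normalizer_iff.1 hm) (f a)
      rw [hPc, mem_comap, mem_comap, map_mul, map_mul, map_inv]
      exact h1
    have hgd : g * d * g⁻¹ ∈ (P : Subgroup K) := ((mem_normalizer_iff.1 hgP) d).1 d.2
    have hgc : (⟨g * d * g⁻¹, hgd⟩ : P) ∈ center P := by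
      rw [mem_center_iff]
      rintro ⟨a, ha⟩
      apply Subtype.ext
      have hga : g⁻¹ * a * g ∈ (P : Subgroup K) := by
        have := ((mem_normalizer_iff.1 hgP) (g⁻¹ * a * g)).2 (by simpa [mul_assoc] using ha)
        exact this
      have h2 := congrArg Subtype.val (mem_center_iff.1 hd ⟨_, hga⟩)
      simp only [Subgroup.coe_mul] at h2 ⊢
      calc a * (g * d * g⁻¹) = g * (g⁻¹ * a * g * d) * g⁻¹ := by group
        _ = g * (d * (g⁻¹ * a * g)) * g⁻¹ := by rw [h2]
        _ = g * d * g⁻¹ * a := by group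
    have hgz : (⟨g * d * g⁻¹, hgd⟩ : P) ∉ zpowers (⟨z, hzP⟩ : P) := by
      intro h
      apply hdz
      obtain ⟨i, hi⟩ := mem_zpowers_iff.1 h
      have h1 := congrArg Subtype.val hi
      simp only [Subgroup.coe_zpow] at h1
      rw [mem_zpowers_iff]
      refine ⟨i, Subtype.ext ?_⟩
      simp only [Subgroup.coe_zpow]
      have h2 : g * (d : K) * g⁻¹ = z ^ i := h1.symm
      calc z ^ i = g⁻¹ * (g * z ^ i) := by group
        _ = g⁻¹ * (z ^ i * g) := by rw [mem_center_iff.1 (zpow_mem hz i) g]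
        _ = g⁻¹ * (g * d * g⁻¹ * g) := by rw [h2]
        _ = d := by group
    -- index two
    have h3 : (⟨g * d * g⁻¹, hgd⟩ : P) * d⁻¹ ∈ zpowers (⟨z, hzP⟩ : P) := by
      have h4 : ((zpowers (⟨z, hzP⟩ : P)).subgroupOf (center P)).index = 2 := hidx
      have h5 := (Subgroup.mul_mem_iff_of_index_two h4 (a := (⟨_, hgc⟩ : center P)) (b := (⟨d, hd⟩ : center P)⁻¹)).2
      have h6 : (⟨_, hgc⟩ : center P) ∉ (zpowers (⟨z, hzP⟩ : P)).subgroupOf (center P) := fun h =>
        hgz (mem_subgroupOf.1 h)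
      have h7 : ((⟨d, hd⟩ : center P)⁻¹) ∉ (zpowers (⟨z, hzP⟩ : P)).subgroupOf (center P) := fun h =>
        hdz (by
          have := inv_mem h
          rw [inv_inv] at this
          exact mem_subgroupOf.1 this)
      have h8 := h5 (by (clear * - hgz h7; tauto))
      exact mem_subgroupOf.1 h8
    have h4 : f (g * d * g⁻¹ * (d : K)⁻¹) = 1 := by
      rw [← MonoidHom.mem_ker, hker]
      obtain ⟨i, hi⟩ := mem_zpowers_iff.1 h3
      have h5 := congrArg Subtype.val hi
      rw [mem_zpowers_iff]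
      refine ⟨i, ?_⟩
      simpa only [_root_.SubgroupClass.coe_zpow, _root_.Subgroup.coe_mul, _root_.InvMemClass.coe_inv] using h5
    rw [map_mul, map_inv, mul_inv_eq_one, map_mul, map_mul, map_inv] at h4
    exact h4
  have h9 : (d : K) ∈ zpowers z := by rw [← hker, MonoidHom.mem_ker]; exact hfd
  apply hdz
  rcases hzp _ h9 with h | h
  · have : d = 1 := Subtype.ext h
    rw [this]; exact one_mem _
  · have : d = (⟨z, hzP⟩ : P) := Subtype.ext h
    rw [this]; exact mem_zpowers _

/-- **`K/Z` has abelian Sylow 2-subgroups of order 8** -/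
theorem eight {K Q : Type*} [Group K] [Finite K] [Group Q] (f : K →* Q) (hf : Function.Surjective f)
    (hperf : commutator K = ⊤) (hker : f.ker ≤ center K) (h2 : IsPGroup 2 f.ker)
    (hQ : ∀ S : Sylow 2 Q, IsMulCommutative (S : Subgroup Q)) (hc : (Nat.card Q).factorization 2 = 3) :
    f.ker = ⊥ := by
  have hp2 : Fact (Nat.Prime 2) := ⟨Nat.prime_two⟩
  by_contra hne
  obtain ⟨k, hk⟩ := IsPGroup.iff_card.1 h2
  have hk0 : k ≠ 0 := by
    rintro rfl
    exact hne (Subgroup.card_eq_one.1 (by simpa only [_root_.MonoidHom.mem_ker, _root_.pow_zero] using hk))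
  obtain ⟨j, rfl⟩ := Nat.exists_eq_succ_of_ne_zero hk0
  obtain ⟨Z₁, hZ₁⟩ := Sylow.exists_subgroup_card_pow_prime (G := f.ker) 2 (n := j)
    (by rw [hk]; exact pow_dvd_pow 2 (Nat.le_succ j))
  let Z₂ : Subgroup K := Z₁.map f.ker.subtype
  have hZ₂c : Nat.card Z₂ = 2 ^ j := by
    rw [← hZ₁]
    exact Subgroup.card_map_of_injective f.ker.subtype_injective
  have hle : Z₂ ≤ f.ker := by
    rintro _ ⟨a, -, rfl⟩
    exact a.2
  have hZn : Z₂.Normal := by
    refine ⟨fun a ha g => ?_⟩
    rw [mem_center_iff.1 (hker (hle ha)) g, mul_inv_cancel_right]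
    exact ha
  let f₁ : K ⧸ Z₂ →* Q := QuotientGroup.lift Z₂ f (fun a ha => hle ha)
  have hf₁ : Function.Surjective f₁ := fun q => by
    obtain ⟨a, rfl⟩ := hf q
    exact ⟨QuotientGroup.mk a, rfl⟩
  have hp₁ : commutator (K ⧸ Z₂) = ⊤ := by
    have hs := QuotientGroup.mk'_surjective Z₂
    rw [commutator_def, ← MonoidHom.range_eq_top.2 hs, MonoidHom.range_eq_map, ← Subgroup.map_commutator,
      ← commutator_def, hperf]
  have hk₁ : f₁.ker = f.ker.map (QuotientGroup.mk' Z₂) := by
    ext x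
    obtain ⟨a, rfl⟩ := QuotientGroup.mk'_surjective Z₂ x
    constructor
    · intro h
      exact mem_map_of_mem _ h
    · rintro ⟨b, hb, hab⟩
      rw [← hab]
      exact hb
  have hcard : Nat.card f₁.ker = 2 := by
    have h3 : Nat.card K = Nat.card f.ker * Nat.card Q := by
      have h1 := Subgroup.card_mul_index f.ker
      rw [Subgroup.index_ker, MonoidHom.range_eq_top.2 hf, Subgroup.card_top] at h1
      exact h1.symm
    have h4 : Nat.card (K ⧸ Z₂) = Nat.card f₁.ker * Nat.card Q := by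
      have h1 := Subgroup.card_mul_index f₁.ker
      rw [Subgroup.index_ker, MonoidHom.range_eq_top.2 hf₁, Subgroup.card_top] at h1
      exact h1.symm
    have h5 := Subgroup.card_eq_card_quotient_mul_card_subgroup Z₂
    rw [h3, h4, hZ₂c, hk, pow_succ] at h5
    have hq : 0 < Nat.card Q := by
      have : Finite Q := Finite.of_surjective f hf
      exact Nat.card_pos
    have hj : 0 < 2 ^ j := by positivity
    have h6 : (2 ^ j * Nat.card Q) * 2 = (2 ^ j * Nat.card Q) * Nat.card f₁.ker := by linarith only [h5]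
    exact (Nat.eq_of_mul_eq_mul_left (by (clear * - hq; positivity)) h6).symm
  obtain ⟨z, hz⟩ := exists_prime_orderOf_dvd_card' (G := f₁.ker) 2 (by rw [hcard])
  have hz2 : orderOf (z : K ⧸ Z₂) = 2 := by rw [Subgroup.orderOf_coe]; exact hz
  have hzc : (z : K ⧸ Z₂) ∈ center (K ⧸ Z₂) := by
    have h1 : (z : K ⧸ Z₂) ∈ f.ker.map (QuotientGroup.mk' Z₂) := by rw [← hk₁]; exact z.2
    obtain ⟨a, ha, hza⟩ := h1
    rw [mem_center_iff]
    intro g
    obtain ⟨b, rfl⟩ := QuotientGroup.mk'_surjective Z₂ g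
    rw [← hza, ← map_mul, ← map_mul, mem_center_iff.1 (hker ha) b]
  refine two_case f₁ hf₁ hp₁ hzc hz2 ?_ hQ hc
  refine (Subgroup.eq_of_le_of_card_ge ?_ ?_).symm
  · rw [zpowers_le]
    exact z.2
  · rw [hcard, Nat.card_zpowers, hz2]

end Eight

end Cfsg.Agent.H981.CentAb
end

-- part: H981/CentAlt5
section
/-!
# Perfect central 2-extensions of `A₅` (helper981)
-/

set_option autoImplicit false

namespace Cfsg.Agent.H981.CentAlt5

open Subgroup

theorem q8 {K : Type*} [Group K] [Finite K] (hp : commutator K = ⊤) (hc : Nat.card (center K) = 2)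
    (hinv : ∀ x : K, orderOf x = 2 → x ∈ center K) (P : Sylow 2 K) (hP : Nat.card P = 8) :
    Nonempty ((P : Subgroup K) ≃* QuaternionGroup 2) := by
  have hp2 : Fact (Nat.Prime 2) := ⟨Nat.prime_two⟩
  obtain ⟨z, hz⟩ := exists_prime_orderOf_dvd_card' (G := ↥(center K)) 2 (by rw [hc])
  have hz1 : z ≠ 1 := by
    rintro rfl
    simp at hz
  have hna : ¬ IsMulCommutative (P : Subgroup K) := by
    intro h
    have := CentAb.eq_one_of_abelian hp P h z.2 ⟨1, by rw [orderOf_coe, hz, pow_one]⟩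
    exact hz1 (Subtype.ext this)
  have huniq : ∀ x : K, orderOf x = 2 → x = z := by
    intro x hx
    have h1 : (Nat.card ↥(center K)) = 2 := hc
    have hx' := hinv x hx
    have h2 : (⟨x, hx'⟩ : center K) ≠ 1 := by
      intro h
      have h3 : x = 1 := congrArg Subtype.val h
      rw [h3, orderOf_one] at hx
      omega
    have h3 := (Nat.card_eq_two_iff' (1 : center K)).1 h1
    exact congrArg Subtype.val (h3.unique h2 hz1)
  rcases SmallSimple.OrderEight.dihedral_or_quaternion_of_card_eight hP hna with ⟨⟨e⟩⟩ | h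
  · exfalso
    have h1 : orderOf ((e.symm (DihedralGroup.r 2) : (P : Subgroup K)) : K) = 2 := by
      rw [orderOf_coe, MulEquiv.orderOf_eq]
      exact orderOf_eq_prime (by decide) (by decide)
    have h2 : orderOf ((e.symm (DihedralGroup.sr 0) : (P : Subgroup K)) : K) = 2 := by
      rw [orderOf_coe, MulEquiv.orderOf_eq]
      exact orderOf_eq_prime (by decide) (by decide)
    have h3 := (huniq _ h1).trans (huniq _ h2).symm
    have h4 := e.symm.injective (Subtype.ext h3)
    exact absurd h4 (by decide)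
  · exact h

theorem alt5 {K : Type*} [Group K] [Finite K] (hp : commutator K = ⊤)
    (e : K ⧸ center K ≃* alternatingGroup (Fin 5)) :
    center K = ⊥ ∨ Nonempty (K ≃* Matrix.SpecialLinearGroup (Fin 2) (ZMod 5)) := by
  have hp2 : Fact (Nat.Prime 2) := ⟨Nat.prime_two⟩
  have h1 := Cfsg.Agent.S0892.result 5 (by norm_num) (by norm_num) (by norm_num) (center K) le_rfl
    (by rw [hp]; exact le_top) e
  have h0 : 0 < Nat.card (center K) := Nat.card_pos
  rcases (show Nat.card (center K) = 1 ∨ Nat.card (center K) = 2 by omega) with h | h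
  · exact Or.inl (eq_bot_of_card_eq _ h)
  right
  have hcard : Nat.card K = 120 := by
    have h60 : Nat.card (alternatingGroup (Fin 5)) = 60 := by
      have h6 := two_mul_nat_card_alternatingGroup (α := Fin 5)
      rw [Nat.card_perm, Nat.card_fin, show (5 : ℕ).factorial = 120 by decide] at h6
      omega
    rw [card_eq_card_quotient_mul_card_subgroup (center K), Nat.card_congr e.toEquiv, h60, h]
  have hcov : Cfsg.IsNonsplitDoubleCover K (alternatingGroup (Fin 5)) := by
    refine ⟨h, ⟨e⟩, fun L hL => ?_⟩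
    have := hL.index_eq_card
    rw [h] at this
    exact CentAb.no_index_two hp L this
  have hnt : Nontrivial K := Finite.one_lt_card_iff_nontrivial.1 (by omega)
  refine Cfsg.Agent.S3378.result.1 K hcard (fun hs => ?_) fun P => ?_
  · exact (Group.IsSolvable.commutator_lt_top_of_nontrivial K).ne hp
  · refine q8 hp h (SporadicB.DoubleCoverUnique.five hcov) P ?_
    rw [Sylow.card_eq_multiplicity, hcard, show (120 : ℕ) = 2 ^ 3 * 15 by norm_num,
      Nat.factorization_mul (by norm_num) (by norm_num), Nat.Prime.factorization_pow Nat.prime_two]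
    have h15 : (15 : ℕ).factorization 2 = 0 := Nat.factorization_eq_zero_of_not_dvd (by norm_num)
    simp [h15]

end Cfsg.Agent.H981.CentAlt5
end
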