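import Cfsg.Agent.H537.CopDefs
import Cfsg.Agent.H680.ONThirtyOne_m3
import Cfsg.Agent.H296.ONCore
import Cfsg.Agent.H94.Sp.Base_m3
import Cfsg.Agent.Prune
set_option linter.all false
prune_inst 0x7f00000000000000000000000000000000000000000000000000000000000000000000000000000000000000000000000000000000000000000000000000000000000000000000000000000000000000003fffffffffffffffffffffffffffbeffbdffffffff
open scoped Cfsg.Agent.FastGrp

/-!
# The elements of order 31 of the O'Nan group generate their own centralisers (helper981)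
-/

set_option autoImplicit false
set_option maxRecDepth 100000

namespace Cfsg.Agent.H981.SCON

open Subgroup Cfsg
open Cfsg.Spor (ON)
open Cfsg.Agent.KFacts.ON.Cent (hON finite_ON cen card_K0)
open Cfsg.Agent.H474.ONC

theorem card_cent_nineteen {y : ON} (hy : orderOf y = 19) : Nat.card ↥(centralizer ({y} : Set ON)) = 19 := by
  have h19F : Fact (Nat.Prime 19) := ⟨by norm_num⟩
  have hfin := finite_ON
  obtain ⟨u, hu, h⟩ := exists_nineteen
  rw [card_cent_eq (by rw [card_ON]; norm_num) hy hu, h]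

theorem no_nineteen' {y : ON} {r : ℕ} (hy : orderOf y = r) (hr : ¬ r ∣ 19) :
    ¬ 19 ∣ Nat.card ↥(centralizer ({y} : Set ON)) := by
  have hfin := finite_ON
  intro h
  obtain ⟨u, hu, huy⟩ := exists_comm (by norm_num : Nat.Prime 19) h
  have h1 := dvd_cent huy.symm
  rw [card_cent_nineteen hu, hy] at h1
  exact hr h1

/-- the arithmetic for the centralizer of an element of order 3 commuting with an element of order 31 -/
theorem arith_one : ∀ a < 4, ∀ c < 2, ∀ d < 4, 2 ^ a * (27 * (5 ^ c * 7 ^ d)) % 31 ≠ 1 := by decide +kernel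

theorem arith_five : ∀ a < 4, ∀ c < 2, ∀ d < 4, 2 ^ a * (27 * (5 ^ c * 7 ^ d)) % 31 ≠ 5 := by decide +kernel

/-- an element of order 31 with centralizer of order 93 and automizer of order 5 -/
theorem not_93 {z : ON} (hz : orderOf z = 31) (hc : Nat.card ↥(centralizer ({z} : Set ON)) = 93)
    (hr : Nat.card ↥((zpowers z).normalizerMonoidHom).range = 5) : False := by
  have hfin := finite_ON
  have h31F : Fact (Nat.Prime 31) := ⟨by norm_num⟩
  have h3F : Fact (Nat.Prime 3) := ⟨by norm_num⟩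
  obtain ⟨y, hy, hyz⟩ := exists_comm (x := z) (by norm_num : Nat.Prime 3) (by rw [hc]; norm_num)
  set K := centralizer ({z} : Set ON) with hK
  set D := centralizer ({y} : Set ON) with hD
  have hzK : z ∈ K := mem_cent.2 rfl
  have hyK : y ∈ K := mem_cent.2 hyz
  have hKc : ∀ a b : K, a * b = b * a := by
    refine Cfsg.Agent.H94.PG.Sp.comm_of_central' (z := (⟨z, hzK⟩ : K)) (fun g => Subtype.ext (mem_cent.1 g.2)) (m := 3)
      Nat.prime_three.squarefree (by decide) ?_
    rw [Subgroup.orderOf_mk, hz, hc]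
  have hKD : K ≤ D := fun g hg => mem_cent.2 (congrArg Subtype.val (hKc ⟨g, hg⟩ ⟨y, hyK⟩))
  have hzD : z ∈ D := hKD hzK
  set z' : D := ⟨z, hzD⟩ with hz'
  have hz'o : orderOf z' = 31 := by rw [hz', Subgroup.orderOf_mk, hz]
  -- the centralizer of `z'` in `D`
  have hCD : Nat.card ↥(centralizer ({z'} : Set D)) = 93 := by
    rw [← hc]
    refine Nat.card_congr ⟨fun a => ⟨(a : D), ?_⟩, fun a => ⟨⟨a, hKD a.2⟩, ?_⟩, fun a => rfl, fun a => rfl⟩
    · exact mem_cent.2 (congrArg Subtype.val (mem_centralizer_singleton_iff.1 a.2))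
    · exact mem_centralizer_singleton_iff.2 (Subtype.ext (mem_cent.1 a.2))
  have hN := CpAutON.Gen.card_normalizer z
  rw [← hK, hc, hr] at hN
  have hND := CpAutON.Gen.card_normalizer z'
  rw [hCD] at hND
  have hle : (normalizer ((zpowers z' : Subgroup D) : Set D)).map D.subtype ≤
      normalizer ((zpowers z : Subgroup ON) : Set ON) := by
    rintro _ ⟨g, hg, rfl⟩
    have h1 : g * z' * g⁻¹ ∈ zpowers z' := (mem_normalizer_iff.1 hg z').1 (mem_zpowers z')
    obtain ⟨i, hi⟩ := mem_zpowers_iff.1 h1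
    refine H474.ONC.mem_normalizer_of_conj ?_
    refine mem_zpowers_iff.2 ⟨i, ?_⟩
    exact congrArg Subtype.val hi
  have hd1 := Subgroup.card_dvd_of_le hle
  rw [Subgroup.card_map_of_injective (Subgroup.subtype_injective _), hN, hND] at hd1
  set m := Nat.card ↥((zpowers z').normalizerMonoidHom).range with hm
  have hm5 : m ∣ 5 := Nat.dvd_of_mul_dvd_mul_left (by norm_num) hd1
  have hDd : Nat.card D ∣ 460815505920 := cent_dvd y
  obtain ⟨n, hn, hDn⟩ := CpAutON.Gen.card_eq (G := D) (p := 31)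
    (fun h => absurd (h.trans hDd) (by norm_num)) hz'o
  rw [hCD, ← hm] at hDn
  have h16 : ¬ 16 ∣ Nat.card D := CpAut.SporThree.ON.not_16 hy
  have h81 : 3 ^ 4 ∣ Nat.card D := H296.ONCore.dvd_three hy
  have h11 : ¬ 11 ∣ Nat.card D := no_eleven hy (by norm_num)
  have h19 : ¬ 19 ∣ Nat.card D := no_nineteen' hy (by norm_num)
  have h31 : 31 ∣ Nat.card D := by
    rw [← hz'o]
    exact orderOf_dvd_natCard _
  obtain ⟨a, b, c, d, e, f, g, ha, hb, hc', hd, he, hf, hg, hs⟩ := shape hDd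
  rw [hs] at h16 h81 h11 h19 h31 hDn
  have ha3 : a ≤ 3 := by
    by_contra h
    apply h16
    obtain ⟨k, rfl⟩ := Nat.exists_eq_add_of_le (show 4 ≤ a by omega)
    exact ⟨2 ^ k * (3 ^ b * (5 ^ c * (7 ^ d * (11 ^ e * (19 ^ f * 31 ^ g))))), by rw [pow_add]; ring⟩
  have he0 : e = 0 := by
    by_contra h
    apply h11
    obtain ⟨k, rfl⟩ := Nat.exists_eq_succ_of_ne_zero h
    exact ⟨2 ^ a * (3 ^ b * (5 ^ c * (7 ^ d * (11 ^ k * (19 ^ f * 31 ^ g))))), by rw [pow_succ]; ring⟩
  have hf0 : f = 0 := by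
    by_contra h
    apply h19
    obtain ⟨k, rfl⟩ := Nat.exists_eq_succ_of_ne_zero h
    exact ⟨2 ^ a * (3 ^ b * (5 ^ c * (7 ^ d * (11 ^ e * (19 ^ k * 31 ^ g))))), by rw [pow_succ]; ring⟩
  subst he0 hf0
  have hb4 : b = 4 := by
    refine le_antisymm hb ?_
    have h1 : Nat.Coprime (3 ^ 4) (2 ^ a * (5 ^ c * (7 ^ d * (11 ^ 0 * (19 ^ 0 * 31 ^ g))))) := by
      refine Nat.Coprime.pow_left 4 ?_
      refine Nat.Coprime.mul_right (Nat.Coprime.pow_right _ (by norm_num)) ?_
      refine Nat.Coprime.mul_right (Nat.Coprime.pow_right _ (by norm_num)) ?_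
      refine Nat.Coprime.mul_right (Nat.Coprime.pow_right _ (by norm_num)) ?_
      refine Nat.Coprime.mul_right (Nat.Coprime.pow_right _ (by norm_num)) ?_
      refine Nat.Coprime.mul_right (Nat.Coprime.pow_right _ (by norm_num)) ?_
      exact Nat.Coprime.pow_right _ (by norm_num)
    have h2 : 3 ^ 4 ∣ 3 ^ b * (2 ^ a * (5 ^ c * (7 ^ d * (11 ^ 0 * (19 ^ 0 * 31 ^ g))))) := by
      refine h81.trans (dvd_of_eq ?_)
      ring
    have h3 := Nat.Coprime.dvd_of_dvd_mul_right h1 h2
    exact (Nat.pow_dvd_pow_iff_le_right (by norm_num)).1 h3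
  have hg1 : g = 1 := by
    interval_cases g
    · exfalso
      have h1 : Nat.Coprime 31 (2 ^ a * (3 ^ b * (5 ^ c * (7 ^ d * (11 ^ 0 * (19 ^ 0 * 31 ^ 0)))))) := by
        refine Nat.Coprime.mul_right (Nat.Coprime.pow_right _ (by norm_num)) ?_
        refine Nat.Coprime.mul_right (Nat.Coprime.pow_right _ (by norm_num)) ?_
        refine Nat.Coprime.mul_right (Nat.Coprime.pow_right _ (by norm_num)) ?_
        refine Nat.Coprime.mul_right (Nat.Coprime.pow_right _ (by norm_num)) ?_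
        norm_num
      have h2 := Nat.Coprime.eq_one_of_dvd h1 h31
      norm_num at h2
    · rfl
  subst hb4 hg1
  have hm0 : 0 < m := Nat.card_pos
  have key : 2 ^ a * (27 * (5 ^ c * 7 ^ d)) = n * m := by
    have h1 : (2 ^ a * (27 * (5 ^ c * 7 ^ d))) * 93 = n * m * 93 := by
      calc (2 ^ a * (27 * (5 ^ c * 7 ^ d))) * 93
          = 2 ^ a * (3 ^ 4 * (5 ^ c * (7 ^ d * (11 ^ 0 * (19 ^ 0 * 31 ^ 1))))) := by ring
        _ = n * (93 * m) := hDn
        _ = n * m * 93 := by ring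
    exact Nat.eq_of_mul_eq_mul_right (by norm_num) h1
  rcases (Nat.dvd_prime (by norm_num : Nat.Prime 5)).1 hm5 with h1 | h1
  · refine arith_one a (by omega) c (by omega) d (by omega) ?_
    rw [key, h1, mul_one]
    exact hn
  · refine arith_five a (by omega) c (by omega) d (by omega) ?_
    rw [key, h1]
    omega

/-- **`O'N`, `p = 31`.** -/
theorem sc_on : H537.Cop.SC 31 Spor.ON := by
  intro z hz
  have hfin := finite_ON
  have h31F : Fact (Nat.Prime 31) := ⟨by norm_num⟩
  have h5F : Fact (Nat.Prime 5) := ⟨by norm_num⟩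
  have h2 : ¬ 2 ∣ Nat.card ↥(centralizer ({z} : Set ON)) := no_two hz (by norm_num)
  have h5 : ¬ 5 ∣ Nat.card ↥(centralizer ({z} : Set ON)) := no_five hz (by norm_num)
  have h49 : ¬ 49 ∣ Nat.card ↥(centralizer ({z} : Set ON)) := no_49 hz n7_31
  have h11 : ¬ 11 ∣ Nat.card ↥(centralizer ({z} : Set ON)) := no_eleven hz (by norm_num)
  have h19 : ¬ 19 ∣ Nat.card ↥(centralizer ({z} : Set ON)) := no_nineteen hz
  have h31 : 31 ∣ Nat.card ↥(centralizer ({z} : Set ON)) := by
    have := dvd_cent (x := z) (y := z) rfl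
    rwa [hz] at this
  obtain ⟨n, hn, hN⟩ := CpAutON.Gen.card_eq (G := ON) (p := 31) (by rw [card_ON]; norm_num) hz
  have hr := range_dvd hz
  have hNc := CpAutON.Gen.card_normalizer z
  obtain ⟨m, hm⟩ : ∃ m, m = Nat.card ↥((zpowers z).normalizerMonoidHom).range := ⟨_, rfl⟩
  rw [← hm] at hr hN hNc
  have hm30 : m ≤ 30 := Nat.le_of_dvd (by norm_num) hr
  -- the cases
  have key : (Nat.card ↥(centralizer ({z} : Set ON)) = 31 ∧ 5 ∣ m) ∨
      (Nat.card ↥(centralizer ({z} : Set ON)) = 93 ∧ m = 5) ∨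
      (7 ∣ Nat.card ↥(centralizer ({z} : Set ON)) ∧ 5 ∣ m) := by
    rw [card_ON] at hN
    obtain ⟨a, b, c, d, e, f, g, ha, hb, hc, hd, he, hf, hg, hs⟩ := shape (cent_dvd z)
    rw [hs] at h2 h5 h49 h19 h31 h11 hN ⊢
    clear hs hNc hm
    have ha0 : a = 0 := by
      by_contra h
      apply h2
      obtain ⟨k, rfl⟩ := Nat.exists_eq_succ_of_ne_zero h
      exact ⟨2 ^ k * (3 ^ b * (5 ^ c * (7 ^ d * (11 ^ e * (19 ^ f * 31 ^ g))))), by rw [pow_succ]; ring⟩
    have hc0 : c = 0 := by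
      by_contra h
      apply h5
      obtain ⟨k, rfl⟩ := Nat.exists_eq_succ_of_ne_zero h
      exact ⟨2 ^ a * (3 ^ b * (5 ^ k * (7 ^ d * (11 ^ e * (19 ^ f * 31 ^ g))))), by rw [pow_succ]; ring⟩
    have he0 : e = 0 := by
      by_contra h
      apply h11
      obtain ⟨k, rfl⟩ := Nat.exists_eq_succ_of_ne_zero h
      exact ⟨2 ^ a * (3 ^ b * (5 ^ c * (7 ^ d * (11 ^ k * (19 ^ f * 31 ^ g))))), by rw [pow_succ]; ring⟩
    have hf0 : f = 0 := by
      by_contra h
      apply h19
      obtain ⟨k, rfl⟩ := Nat.exists_eq_succ_of_ne_zero h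
      exact ⟨2 ^ a * (3 ^ b * (5 ^ c * (7 ^ d * (11 ^ e * (19 ^ k * 31 ^ g))))), by rw [pow_succ]; ring⟩
    have hd1 : d ≤ 1 := by
      by_contra h
      apply h49
      obtain ⟨k, rfl⟩ := Nat.exists_eq_add_of_le (show 2 ≤ d by omega)
      exact ⟨2 ^ a * (3 ^ b * (5 ^ c * (7 ^ k * (11 ^ e * (19 ^ f * 31 ^ g))))), by rw [pow_add]; ring⟩
    subst ha0 hc0 he0 hf0
    clear h2 h5 h49 h11 h19 hd
    interval_cases g
    · exfalso
      interval_cases b <;> interval_cases d <;> norm_num at h31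
    interval_cases m <;> first | (exfalso; revert hr; norm_num; done) |
      (interval_cases b <;> interval_cases d <;> first | (norm_num; done) | (exfalso; norm_num at hN; omega))
  -- an element of order 5 in the normalizer
  have h5m : 5 ∣ m := by
    rcases key with h | h | h
    · exact h.2
    · rw [h.2]
    · exact h.2
  have h5N : 5 ∣ Nat.card ↥(normalizer ((zpowers z : Subgroup ON) : Set ON)) := by
    rw [hNc]
    exact h5m.mul_left _
  obtain ⟨f, hf⟩ := exists_prime_orderOf_dvd_card' 5 h5N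
  have h7 := trick7 (f := f) (by rw [orderOf_coe]; exact hf) f.2 h5 h49
  rcases key with h | h | h
  · exact h.1
  · exact (not_93 hz h.1 (by rw [← hm, h.2])).elim
  · exact absurd h.1 h7

end Cfsg.Agent.H981.SCON
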